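import Mathlib

/-!
Discriminants of quadratic forms over finite fields of odd order.
-/

set_option autoImplicit false

namespace Cfsg.Agent.Disc

variable {F : Type*} [Field F]

/-- Gram matrices in two bases differ by the square of a determinant. -/
theorem exists_det_gram {κ ι : Type*} [Fintype κ] [DecidableEq κ] [Fintype ι] [DecidableEq ι]
    (b : Module.Basis ι F (κ → F)) (G : Matrix κ κ F) (f : (κ → F) → (κ → F) → F)
    (hf : ∀ u v, f u v = u ⬝ᵥ G.mulVec v) :
    ∃ d : F, d ≠ 0 ∧ (Matrix.of fun i j : ι => f (b i) (b j)).det = d * d * G.det := by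
  let e : ι ≃ κ := b.indexEquiv (Pi.basisFun F κ)
  let P := (Pi.basisFun F κ).toMatrix (b.reindex e)
  refine ⟨P.det, ?_, ?_⟩
  · have h : P * (b.reindex e).toMatrix (Pi.basisFun F κ) = 1 :=
      Module.Basis.toMatrix_mul_toMatrix_flip _ _
    intro h0
    have := congrArg Matrix.det h
    rw [Matrix.det_mul, h0, zero_mul, Matrix.det_one] at this
    exact zero_ne_one this
  · have h : (Matrix.of fun i j : ι => f (b i) (b j)).submatrix e.symm e.symm =
        Matrix.transpose P * G * P := by
      ext a c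
      rw [Matrix.submatrix_apply, Matrix.of_apply, hf, Matrix.mul_assoc, Matrix.mul_apply]
      refine Finset.sum_congr rfl fun i _ => ?_
      simp [P, Matrix.mul_apply, Matrix.mulVec, dotProduct, Module.Basis.toMatrix_apply]
    rw [← Matrix.det_submatrix_equiv_self e.symm, h, Matrix.det_mul, Matrix.det_mul, Matrix.det_transpose]
    ring

theorem isSquare_mul_self_mul {d x : F} (hd : d ≠ 0) : IsSquare (d * d * x) ↔ IsSquare x := by
  constructor
  · rintro ⟨r, hr⟩
    exact ⟨r / d, by field_simp; linear_combination hr⟩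
  · rintro ⟨r, hr⟩
    exact ⟨d * r, by rw [hr]; ring⟩

variable [Fintype F]

theorem two_ne_zero_of_odd (hq : Odd (Fintype.card F)) : (2 : F) ≠ 0 := Ring.two_ne_zero fun h => by
  have := FiniteField.even_card_of_char_two h
  obtain ⟨w, hw⟩ := hq
  omega

theorem isSquare_neg_one_pow (hq : Odd (Fintype.card F)) (m : ℕ) :
    IsSquare ((-1 : F) ^ m) ↔ Even (m * (Fintype.card F - 1) / 2) := by
  obtain ⟨w, hw⟩ := hq
  have h2 : m * (Fintype.card F - 1) / 2 = m * w := by
    rw [hw, Nat.add_sub_cancel, mul_left_comm, Nat.mul_div_cancel_left _ two_pos]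
  rw [h2, Nat.even_mul]
  rcases Nat.even_or_odd m with hm | hm
  · rw [hm.neg_one_pow]
    exact iff_of_true IsSquare.one (Or.inl hm)
  · rw [hm.neg_one_pow, FiniteField.isSquare_neg_one_iff]
    simp only [Nat.not_even_iff_odd.2 hm, false_or, Nat.even_iff]
    omega

theorem isSquare_mul_iff {x y : F} (hx : x ≠ 0) (hy : ¬ IsSquare y) :
    IsSquare (x * y) ↔ ¬ IsSquare x := by
  classical
  have hy0 : y ≠ 0 := fun h => hy (h ▸ IsSquare.zero)
  have hchar : ringChar F ≠ 2 := fun h => hy (FiniteField.isSquare_of_char_two h y)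
  rw [← quadraticChar_one_iff_isSquare (mul_ne_zero hx hy0), ← quadraticChar_neg_one_iff_not_isSquare,
    map_mul, quadraticChar_neg_one_iff_not_isSquare.2 hy]
  omega

end Cfsg.Agent.Disc
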